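import Mathlib
import Cfsg.Agent.Lib.Helper61.QB.DefsG
import Cfsg.Agent.Lib.Helper69.CoprimeIndex

/-! FARM S4125, piece P1: simultaneous conjugation for coprime class sizes. -/

set_option autoImplicit false

namespace Cfsg.Agent.Lib.Helper86.QB

open Cfsg.Agent.Lib.Helper61.QB

universe u

variable {G : Type u} [Group G] [Finite G]

/-- [P1] -/
theorem exists_simultaneous_conj (x y : G) (h : (idx x).Coprime (idx y)) (g g' : G) :
    ∃ t : G, t * x * t⁻¹ = g * x * g⁻¹ ∧ t * y * t⁻¹ = g' * y * g'⁻¹ := by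
  obtain ⟨c, hc, d, hd, hcd⟩ := Cfsg.Agent.Lib.Helper69.exists_mul_of_coprime_index
    (Subgroup.centralizer ({y} : Set G)) (Subgroup.centralizer ({x} : Set G)) h.symm (g⁻¹ * g')
  rw [Subgroup.mem_centralizer_singleton_iff] at hc hd
  refine ⟨g * c, ?_, ?_⟩
  · have : c * x * c⁻¹ = x := by rw [hc, mul_inv_cancel_right]
    calc g * c * x * (g * c)⁻¹ = g * (c * x * c⁻¹) * g⁻¹ := by group
      _ = g * x * g⁻¹ := by rw [this]
  · have e : g * c = g' * d⁻¹ := by
      have : g' = g * (c * d) := by rw [← hcd, mul_inv_cancel_left]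
      rw [this]; group
    have : d⁻¹ * y * d = y := by
      rw [mul_assoc, ← hd, inv_mul_cancel_left]
    calc g * c * y * (g * c)⁻¹ = g' * (d⁻¹ * y * d) * g'⁻¹ := by rw [e]; group
      _ = g' * y * g'⁻¹ := by rw [this]

end Cfsg.Agent.Lib.Helper86.QB
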